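import Mathlib

/-!
Elementary facts on the Todd-class integrand `B(-dx)⁻¹ B(-dpx) B(x)^m e^((dp+c)x)`.
-/

set_option autoImplicit false

open PowerSeries Finset Filter

namespace Groth.Agent.MBBern

local notation "𝔹" => bernoulli'PowerSeries ℚ

theorem coeff_B (k : ℕ) : PowerSeries.coeff k 𝔹 = bernoulli' k / (Nat.factorial k : ℚ) := by
  simp [bernoulli'PowerSeries]

theorem B_mul_exp_sub_one : 𝔹 * (exp ℚ - 1) = X * exp ℚ := bernoulli'PowerSeries_mul_exp_sub_one ℚ

theorem exp_sub_one_ne_zero : exp ℚ - 1 ≠ 0 := by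
  intro h
  have := congrArg (PowerSeries.coeff 1) h
  simp [PowerSeries.coeff_exp, PowerSeries.coeff_one] at this

theorem rescale_neg_one_B_mul_exp : rescale (-1) 𝔹 * exp ℚ = 𝔹 := by
  have h1 : rescale (-1 : ℚ) 𝔹 * (rescale (-1 : ℚ) (exp ℚ) - 1) =
      -X * rescale (-1 : ℚ) (exp ℚ) := by
    have := congrArg (rescale (-1 : ℚ)) B_mul_exp_sub_one
    simpa [map_mul, map_sub, rescale_neg_one_X] using this
  have h2 : rescale (-1 : ℚ) (exp ℚ) * exp ℚ = 1 := by
    have := exp_mul_exp_eq_exp_add (-1 : ℚ) 1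
    simpa [rescale_one, rescale_zero] using this
  have h3 : rescale (-1 : ℚ) 𝔹 * (1 - exp ℚ) = -X := by
    calc rescale (-1 : ℚ) 𝔹 * (1 - exp ℚ)
        = rescale (-1 : ℚ) 𝔹 * (rescale (-1 : ℚ) (exp ℚ) - 1) * exp ℚ := by
          rw [mul_assoc, sub_mul, h2, one_mul]
      _ = -X := by rw [h1, mul_assoc, h2, mul_one]
  apply mul_right_cancel₀ exp_sub_one_ne_zero
  rw [B_mul_exp_sub_one]
  linear_combination (-(exp ℚ)) * h3

theorem rescale_neg_B_mul_exp (a : ℚ) :
    rescale (-a) 𝔹 * rescale a (exp ℚ) = rescale a 𝔹 := by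
  have := congrArg (rescale a) rescale_neg_one_B_mul_exp
  rw [map_mul, rescale_rescale] at this
  simpa using this

/-- The part of the integrand which does not depend on `p`. -/
noncomputable def G (d : ℚ) (m : ℕ) (c : ℚ) : ℚ⟦X⟧ :=
  (rescale (-d) 𝔹)⁻¹ * 𝔹 ^ m * rescale c (exp ℚ)

theorem integrand_eq (d a : ℚ) (m : ℕ) (c e : ℚ) (he : e = a + c) :
    (rescale (-d) 𝔹)⁻¹ * rescale (-a) 𝔹 * 𝔹 ^ m * rescale e (exp ℚ) =
      rescale a 𝔹 * G d m c := by
  subst he
  rw [← exp_mul_exp_eq_exp_add, ← rescale_neg_B_mul_exp a, G]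
  ring

theorem constantCoeff_B : constantCoeff 𝔹 = 1 := by
  rw [← coeff_zero_eq_constantCoeff_apply, coeff_B]; simp

theorem coeff_one_mul' (f g : ℚ⟦X⟧) : PowerSeries.coeff 1 (f * g) =
    PowerSeries.coeff 0 f * PowerSeries.coeff 1 g + PowerSeries.coeff 1 f * PowerSeries.coeff 0 g := by
  rw [PowerSeries.coeff_mul, Nat.sum_antidiagonal_succ]; simp

theorem coeff_two_mul' (f g : ℚ⟦X⟧) : PowerSeries.coeff 2 (f * g) =
    PowerSeries.coeff 0 f * PowerSeries.coeff 2 g + PowerSeries.coeff 1 f * PowerSeries.coeff 1 g +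
      PowerSeries.coeff 2 f * PowerSeries.coeff 0 g := by
  rw [PowerSeries.coeff_mul, Nat.sum_antidiagonal_succ, Nat.sum_antidiagonal_succ]; simp; ring

theorem coeff_three_mul' (f g : ℚ⟦X⟧) : PowerSeries.coeff 3 (f * g) =
    PowerSeries.coeff 0 f * PowerSeries.coeff 3 g + PowerSeries.coeff 1 f * PowerSeries.coeff 2 g +
      PowerSeries.coeff 2 f * PowerSeries.coeff 1 g +
      PowerSeries.coeff 3 f * PowerSeries.coeff 0 g := by
  rw [PowerSeries.coeff_mul, Nat.sum_antidiagonal_succ, Nat.sum_antidiagonal_succ,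
    Nat.sum_antidiagonal_succ]
  simp; ring

theorem constantCoeff_rescale' (a : ℚ) (f : ℚ⟦X⟧) :
    PowerSeries.coeff 0 (rescale a f) = PowerSeries.coeff 0 f := by simp [coeff_rescale]

section inv

variable (d : ℚ)

theorem u_ne : constantCoeff (rescale (-d) 𝔹) ≠ 0 := by
  rw [← coeff_zero_eq_constantCoeff_apply, constantCoeff_rescale', coeff_B]; simp

theorem inv0 : PowerSeries.coeff 0 (rescale (-d) 𝔹)⁻¹ = 1 := by
  rw [coeff_zero_eq_constantCoeff_apply, PowerSeries.constantCoeff_inv,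
    ← coeff_zero_eq_constantCoeff_apply, constantCoeff_rescale', coeff_B]
  simp

theorem inv1 : PowerSeries.coeff 1 (rescale (-d) 𝔹)⁻¹ = d / 2 := by
  have h := congrArg (PowerSeries.coeff 1) (PowerSeries.mul_inv_cancel _ (u_ne d))
  rw [coeff_one_mul', inv0] at h
  simp [coeff_rescale, coeff_B, bernoulli'_one, PowerSeries.coeff_one,
    -coeff_zero_eq_constantCoeff] at h
  linarith

theorem inv2 : PowerSeries.coeff 2 (rescale (-d) 𝔹)⁻¹ = d ^ 2 / 6 := by
  have h := congrArg (PowerSeries.coeff 2) (PowerSeries.mul_inv_cancel _ (u_ne d))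
  rw [coeff_two_mul', inv0, inv1] at h
  simp [coeff_rescale, coeff_B, bernoulli'_one, bernoulli'_two, PowerSeries.coeff_one,
    -coeff_zero_eq_constantCoeff, Nat.factorial] at h
  linarith

theorem inv3 : PowerSeries.coeff 3 (rescale (-d) 𝔹)⁻¹ = d ^ 3 / 24 := by
  have h := congrArg (PowerSeries.coeff 3) (PowerSeries.mul_inv_cancel _ (u_ne d))
  rw [coeff_three_mul', inv0, inv1, inv2] at h
  simp [coeff_rescale, coeff_B, bernoulli'_one, bernoulli'_two, bernoulli'_three,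
    PowerSeries.coeff_one, -coeff_zero_eq_constantCoeff, Nat.factorial] at h
  linarith

end inv

theorem pow_coeff0 (m : ℕ) : PowerSeries.coeff 0 (𝔹 ^ m) = 1 := by
  rw [coeff_zero_eq_constantCoeff_apply, map_pow, constantCoeff_B, one_pow]

theorem pow_coeff1 (m : ℕ) : PowerSeries.coeff 1 (𝔹 ^ m) = m / 2 := by
  induction m with
  | zero => simp
  | succ m ih =>
    rw [pow_succ, coeff_one_mul', ih, pow_coeff0, coeff_B, coeff_B]
    simp [bernoulli'_one]; ring

theorem G0 (d : ℚ) (m : ℕ) (c : ℚ) : PowerSeries.coeff 0 (G d m c) = 1 := by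
  rw [G, coeff_zero_eq_constantCoeff_apply, map_mul, map_mul]
  simp only [← coeff_zero_eq_constantCoeff_apply, inv0, pow_coeff0, constantCoeff_rescale']
  simp

theorem mul0 (f g : ℚ⟦X⟧) : PowerSeries.coeff 0 (f * g) =
    PowerSeries.coeff 0 f * PowerSeries.coeff 0 g := by
  simp

theorem G1 (d : ℚ) (m : ℕ) (c : ℚ) : PowerSeries.coeff 1 (G d m c) = d / 2 + m / 2 + c := by
  rw [G, coeff_one_mul', coeff_one_mul', mul0, inv0, inv1, pow_coeff0, pow_coeff1]
  simp [coeff_rescale, PowerSeries.coeff_exp, -coeff_zero_eq_constantCoeff]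
  ring

/-- The lower order part of the coefficient, as a polynomial in `p`. -/
noncomputable def lowPoly (d : ℚ) (n : ℕ) (g : ℚ⟦X⟧) : Polynomial ℚ :=
  ∑ k ∈ Finset.range (n - 1),
    Polynomial.C (bernoulli' k * d ^ k / (Nat.factorial k : ℚ) * PowerSeries.coeff (n - k) g) *
      Polynomial.X ^ k

theorem natDegree_lowPoly (d : ℚ) (n : ℕ) (g : ℚ⟦X⟧) : (lowPoly d n g).natDegree ≤ n - 2 := by
  apply Polynomial.natDegree_sum_le_of_forall_le
  intro k hk
  refine (Polynomial.natDegree_C_mul_X_pow_le _ _).trans ?_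
  have := Finset.mem_range.1 hk
  omega

theorem coeff_rescale_mul (d p : ℚ) (n : ℕ) (hn : 2 ≤ n) (g : ℚ⟦X⟧)
    (hg : PowerSeries.coeff 0 g = 1) :
    PowerSeries.coeff n (rescale (d * p) 𝔹 * g) =
      bernoulli' n * (d * p) ^ n / (Nat.factorial n : ℚ) +
        PowerSeries.coeff 1 g * bernoulli' (n - 1) * (d * p) ^ (n - 1) /
          (Nat.factorial (n - 1) : ℚ) +
        (lowPoly d n g).eval p := by
  obtain ⟨N, rfl⟩ : ∃ N, n = N + 2 := ⟨n - 2, by omega⟩
  rw [PowerSeries.coeff_mul, Finset.Nat.sum_antidiagonal_eq_sum_range_succ_mk,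
    Finset.sum_range_succ, Finset.sum_range_succ]
  simp only [lowPoly, Polynomial.eval_finsetSum, Polynomial.eval_mul, Polynomial.eval_C,
    Polynomial.eval_pow, Polynomial.eval_X, coeff_rescale, coeff_B]
  rw [show N + 2 - (N + 2) = 0 by omega, show N + 2 - (N + 1) = 1 by omega,
    show N + 2 - 1 = N + 1 by omega, hg]
  have : ∀ k ∈ Finset.range (N + 1), (d * p) ^ k * (bernoulli' k / (Nat.factorial k : ℚ)) *
      PowerSeries.coeff (N + 2 - k) g = bernoulli' k * d ^ k / (Nat.factorial k : ℚ) *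
        PowerSeries.coeff (N + 2 - k) g * p ^ k := by
    intro k _
    rw [mul_pow]; ring
  rw [Finset.sum_congr rfl this]
  ring

theorem bernoulli'_sign (k : ℕ) (hk : k ≠ 0) : 0 < (-1 : ℚ) ^ (k + 1) * bernoulli' (2 * k) := by
  have h := hasSum_zeta_nat hk
  have h1 : (1 : ℝ) ≤ _ := le_of_eq_of_le (by norm_num : (1 : ℝ) = 1 / ((1 : ℕ) : ℝ) ^ (2 * k))
    (le_hasSum h 1 (fun j _ => by positivity))
  have h2 : bernoulli (2 * k) = bernoulli' (2 * k) :=
    bernoulli_eq_bernoulli'_of_ne_one (by omega)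
  rw [h2] at h1
  by_contra hneg
  push Not at hneg
  have h3 : ((-1 : ℝ) ^ (k + 1) * (bernoulli' (2 * k) : ℝ)) ≤ 0 := by exact_mod_cast hneg
  have h4 : (-1 : ℝ) ^ (k + 1) * 2 ^ (2 * k - 1) * Real.pi ^ (2 * k) *
      (bernoulli' (2 * k) : ℝ) / (Nat.factorial (2 * k) : ℝ) ≤ 0 := by
    apply div_nonpos_of_nonpos_of_nonneg _ (by positivity)
    have : (-1 : ℝ) ^ (k + 1) * 2 ^ (2 * k - 1) * Real.pi ^ (2 * k) * (bernoulli' (2 * k) : ℝ) =
      (2 ^ (2 * k - 1) * Real.pi ^ (2 * k)) * ((-1 : ℝ) ^ (k + 1) * (bernoulli' (2 * k) : ℝ)) := by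
      ring
    rw [this]
    exact mul_nonpos_of_nonneg_of_nonpos (by positivity) h3
  linarith

theorem bernoulli'_neg_of_mod_four_eq_zero {m : ℕ} (hm : m % 4 = 0) (h0 : m ≠ 0) :
    bernoulli' m < 0 := by
  obtain ⟨j, rfl⟩ : ∃ j, m = 2 * (2 * j) := ⟨m / 4, by omega⟩
  have := bernoulli'_sign (2 * j) (by omega)
  rw [pow_succ, pow_mul] at this
  norm_num at this
  linarith

theorem bernoulli'_pos_of_mod_four_eq_two {m : ℕ} (hm : m % 4 = 2) : 0 < bernoulli' m := by
  obtain ⟨j, rfl⟩ : ∃ j, m = 2 * (2 * j + 1) := ⟨m / 4, by omega⟩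
  have := bernoulli'_sign (2 * j + 1) (by omega)
  rw [show 2 * j + 1 + 1 = 2 * (j + 1) by ring, pow_mul] at this
  norm_num at this
  linarith

theorem eventually_neg (c : ℚ) (hc : c < 0) (m : ℕ) (hm : 1 ≤ m) (R : Polynomial ℚ)
    (hR : R.natDegree < m) :
    ∃ P : ℕ, ∀ p : ℕ, P ≤ p → c * (p : ℚ) ^ m + R.eval (p : ℚ) < 0 := by
  set Q := Polynomial.C c * Polynomial.X ^ m + R with hQ
  have hd : R.degree < (Polynomial.C c * Polynomial.X ^ m).degree := by
    rw [Polynomial.degree_C_mul_X_pow m hc.ne]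
    exact lt_of_le_of_lt Polynomial.degree_le_natDegree (by exact_mod_cast hR)
  have hl : Q.leadingCoeff = c := by
    rw [hQ, Polynomial.leadingCoeff_add_of_degree_lt' hd, Polynomial.leadingCoeff_C_mul_X_pow]
  have hdeg : 0 < Q.degree := by
    rw [hQ, Polynomial.degree_add_eq_left_of_degree_lt hd, Polynomial.degree_C_mul_X_pow m hc.ne]
    exact_mod_cast hm
  have ht := (Polynomial.tendsto_atBot_of_leadingCoeff_nonpos Q hdeg (by rw [hl]; exact hc.le)).comp
    (tendsto_natCast_atTop_atTop (R := ℚ))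
  obtain ⟨P, hP⟩ := Filter.eventually_atTop.1 (ht.eventually (eventually_lt_atBot 0))
  refine ⟨P, fun p hp => ?_⟩
  have := hP p hp
  simpa [hQ, Function.comp] using this

end Groth.Agent.MBBern
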